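/-
The Hecke algebra of the Weyl group of a BN-pair with one parameter, as matrices over a commutative
ring: left and right multiplications by the standard basis, and a central averaging operator.
-/
import Cfsg.Agent.Lib.BN.Alternating
import Mathlib.LinearAlgebra.Matrix.NonsingularInverse

set_option autoImplicit false

set_option linter.unusedSectionVars false

namespace CfsgLib.HeckeCentre

open CfsgLib.BN Matrix

variable {G : Type*} [Group G] (P : Cfsg.BNPair G)

/-- Left multiplication by `σ s` shortens `w`. -/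
def Dn (s : P.S) (w : Weyl P) : Prop := len P (σ P s * w) < len P w

/-- Right multiplication by `σ s` shortens `w`. -/
def RDn (s : P.S) (w : Weyl P) : Prop := len P (w * σ P s) < len P w

theorem inv_mul_σ (s : P.S) (w : Weyl P) : σ P s * w⁻¹ = (w * σ P s)⁻¹ := by
  rw [_root_.mul_inv_rev, σ_inv]

theorem dn_inv (s : P.S) (w : Weyl P) : Dn P s w⁻¹ ↔ RDn P s w := by
  rw [Dn, RDn, inv_mul_σ, len_inv, len_inv]

theorem not_dn_one (s : P.S) : ¬ Dn P s 1 := by
  rw [Dn, mul_one, len_σ, len_one]
  omega

theorem dn_σ_mul (s : P.S) (w : Weyl P) : Dn P s (σ P s * w) ↔ ¬ Dn P s w := by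
  have := len_σ_mul_ne P s w
  rw [Dn, Dn, σ_mul_σ_mul]
  omega

theorem rdn_mul_σ (s : P.S) (w : Weyl P) : RDn P s (w * σ P s) ↔ ¬ RDn P s w := by
  rw [← dn_inv P, ← dn_inv P, ← inv_mul_σ, dn_σ_mul]

/-- Descents on one side are unchanged by a multiplication on the other side, up to one exception. -/
theorem dn_mul_σ_of_up (s r : P.S) {w : Weyl P} (hne : σ P s * w ≠ w * σ P r) (h : ¬ Dn P s w) :
    ¬ Dn P s (w * σ P r) := by
  intro hd
  unfold Dn at h hd
  rcases len_mul_σ_cases P w r with hu | hdn
  · obtain ⟨l, hl, rfl⟩ := exists_reduced P w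
    have hred : Red P (l ++ [r]) := by
      rw [Red, wd_append, wd_cons, wd_nil, mul_one, hu, List.length_append, List.length_singleton, hl]
    obtain ⟨i, hi, e⟩ := exchange P s hred (by
      rw [wd_append, wd_cons, wd_nil, mul_one, List.length_append, List.length_singleton, hl, ← hu]
      exact hd)
    by_cases hi' : i < l.length
    · rw [List.eraseIdx_append_of_lt_length hi', wd_append, wd_append, wd_cons, wd_nil, mul_one,
        ← mul_assoc, mul_left_inj] at e
      have h1 := len_le P (l.eraseIdx i)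
      rw [← e, List.length_eraseIdx, if_pos hi'] at h1
      omega
    · rw [List.length_append, List.length_singleton] at hi
      rw [show i = l.length by omega, List.eraseIdx_append_of_length_le le_rfl, Nat.sub_self,
        List.eraseIdx_cons_zero, List.append_nil, wd_append, wd_cons, wd_nil, mul_one] at e
      exact hne (by conv_lhs => rw [← e, σ_mul_σ_mul])
  · rw [← mul_assoc] at hd
    rcases len_mul_σ_cases P (σ P s * w) r with h1 | h1 <;>
      rcases len_σ_mul_cases P s w with h2 | h2 <;> omega

theorem dn_mul_σ_iff (s r : P.S) {w : Weyl P} (hne : σ P s * w ≠ w * σ P r) :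
    Dn P s (w * σ P r) ↔ Dn P s w := by
  constructor
  · intro h
    by_contra h'
    exact dn_mul_σ_of_up P s r hne h' h
  · intro h
    have h' : ¬ Dn P s (σ P s * w) := fun hd => (dn_σ_mul P s w).1 hd h
    have hne' : σ P s * (σ P s * w) ≠ σ P s * w * σ P r := fun e => hne (by
      rw [mul_assoc] at e
      exact mul_left_cancel e)
    have h1 := dn_mul_σ_of_up P s r hne' h'
    rw [mul_assoc, dn_σ_mul, not_not] at h1
    exact h1

theorem rdn_σ_mul_iff (s r : P.S) {w : Weyl P} (hne : σ P s * w ≠ w * σ P r) :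
    RDn P r (σ P s * w) ↔ RDn P r w := by
  rw [← dn_inv P, ← dn_inv P, _root_.mul_inv_rev, σ_inv]
  refine dn_mul_σ_iff P r s fun e => hne ?_
  have e' := congrArg Inv.inv e
  simp only [_root_.mul_inv_rev, σ_inv, inv_inv] at e'
  exact e'.symm

open Classical in
/-- The coefficient of `e_w` in `T_s e_w`. -/
noncomputable def kap {R : Type*} [CommRing R] (t : R) (p : Prop) : R := if p then t - 1 else 0

open Classical in
/-- The coefficient of `e_{sw}` in `T_s e_w`. -/
noncomputable def mu {R : Type*} [CommRing R] (t : R) (p : Prop) : R := if p then t else 1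

theorem kap_congr {R : Type*} [CommRing R] (t : R) {p p' : Prop} (h : p ↔ p') : kap t p = kap t p' := by
  rw [propext h]

theorem mu_congr {R : Type*} [CommRing R] (t : R) {p p' : Prop} (h : p ↔ p') : mu t p = mu t p' := by
  rw [propext h]

section Algebra

variable [Fintype (Weyl P)] [DecidableEq (Weyl P)]
variable {R : Type*} [CommRing R] (t : R)

/-- Left multiplication by the basis element of `σ s`. -/
noncomputable def Lm (s : P.S) : Matrix (Weyl P) (Weyl P) R :=
  Matrix.of fun x y => kap t (Dn P s y) * (if x = y then 1 else 0) +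
    mu t (Dn P s y) * (if x = σ P s * y then 1 else 0)

/-- Right multiplication by the basis element of `σ s`. -/
noncomputable def Rm (s : P.S) : Matrix (Weyl P) (Weyl P) R :=
  (Lm P t s).submatrix Inv.inv Inv.inv

theorem Rm_apply (s : P.S) (x y : Weyl P) : Rm P t s x y = kap t (RDn P s y) * (if x = y then 1 else 0) +
    mu t (RDn P s y) * (if x = y * σ P s then 1 else 0) := by
  rw [Rm, submatrix_apply, Lm, of_apply, inv_mul_σ, kap_congr t (dn_inv P s y), mu_congr t (dn_inv P s y)]
  simp only [_root_.inv_inj]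

theorem mul_Lm_apply (M : Matrix (Weyl P) (Weyl P) R) (s : P.S) (x y : Weyl P) :
    (M * Lm P t s) x y = kap t (Dn P s y) * M x y + mu t (Dn P s y) * M x (σ P s * y) := by
  simp only [mul_apply, Lm, of_apply, mul_add, Finset.sum_add_distrib, mul_ite, mul_one, mul_zero,
    Finset.sum_ite_eq', Finset.mem_univ, if_true]
  ring

theorem mul_Rm_apply (M : Matrix (Weyl P) (Weyl P) R) (s : P.S) (x y : Weyl P) :
    (M * Rm P t s) x y = kap t (RDn P s y) * M x y + mu t (RDn P s y) * M x (y * σ P s) := by
  simp only [mul_apply, Rm_apply, mul_add, Finset.sum_add_distrib, mul_ite, mul_one, mul_zero,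
    Finset.sum_ite_eq', Finset.mem_univ, if_true]
  ring

/-- Left and right multiplications commute. -/
theorem Lm_Rm_comm (s r : P.S) : Commute (Lm P t s) (Rm P t r) := by
  refine Matrix.ext fun x w => ?_
  rw [mul_Rm_apply, mul_Lm_apply]
  simp only [Lm, of_apply, Rm_apply]
  by_cases h : σ P s * w = w * σ P r
  · have h1 : σ P s * w * σ P r = w := by rw [h, mul_assoc, σ_mul_self, mul_one]
    have h2 : σ P s * (w * σ P r) = w := by rw [← mul_assoc, h1]
    have hab : RDn P r w ↔ Dn P s w := by rw [Dn, RDn, h]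
    rw [h1, h2, kap_congr t hab, mu_congr t hab,
      kap_congr t (show RDn P r (σ P s * w) ↔ ¬ Dn P s w by rw [h, rdn_mul_σ, hab]),
      mu_congr t (show RDn P r (σ P s * w) ↔ ¬ Dn P s w by rw [h, rdn_mul_σ, hab]),
      kap_congr t (show Dn P s (w * σ P r) ↔ ¬ Dn P s w by rw [← h, dn_σ_mul]),
      mu_congr t (show Dn P s (w * σ P r) ↔ ¬ Dn P s w by rw [← h, dn_σ_mul]), h]
  · rw [kap_congr t (dn_mul_σ_iff P s r h), mu_congr t (dn_mul_σ_iff P s r h),
      kap_congr t (rdn_σ_mul_iff P s r h), mu_congr t (rdn_σ_mul_iff P s r h), mul_assoc (σ P s)]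
    ring

/-- A matrix commuting with all right multiplications is determined by the column of `1`. -/
theorem ext_of_comm {M M' : Matrix (Weyl P) (Weyl P) R} (hM : ∀ r, Commute M (Rm P t r))
    (hM' : ∀ r, Commute M' (Rm P t r)) (h1 : ∀ x, M x 1 = M' x 1) : M = M' := by
  suffices H : ∀ (n : ℕ) (y : Weyl P), len P y = n → ∀ x, M x y = M' x y from
    Matrix.ext fun x y => H _ y rfl x
  intro n
  induction n with
  | zero => intro y hy x; rw [len_eq_zero P hy]; exact h1 x
  | succ n ih =>
    intro y hy x
    obtain ⟨p, s, rfl, hp⟩ := exists_snoc P (q := y) (by omega)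
    have hup : ¬ RDn P s p := by
      unfold RDn
      omega
    have e1 : ∀ N : Matrix (Weyl P) (Weyl P) R, (N * Rm P t s) x p = N x (p * σ P s) := fun N => by
      rw [mul_Rm_apply, kap, mu, if_neg hup, if_neg hup, zero_mul, zero_add, one_mul]
    rw [← e1 M, ← e1 M', (hM s).eq, (hM' s).eq, mul_apply, mul_apply]
    exact Finset.sum_congr rfl fun z _ => by rw [ih p (by omega) z]

/-- The product of the left multiplications along a word. -/
noncomputable def LW (l : List P.S) : Matrix (Weyl P) (Weyl P) R := (l.map (Lm P t)).prod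

theorem LW_comm : ∀ (l : List P.S) (r : P.S), Commute (LW P t l) (Rm P t r)
  | [], _ => Commute.one_left _
  | s :: l, r => by
    rw [LW, List.map_cons, List.prod_cons]
    exact (Lm_Rm_comm P t s r).mul_left (LW_comm l r)

theorem LW_col : ∀ {l : List P.S}, Red P l → ∀ x, LW P t l x 1 = if x = wd P l then 1 else 0
  | [], _, x => by rw [LW, List.map_nil, List.prod_nil, one_apply, wd_nil]
  | s :: l, h, x => by
    have hl := Red.tail P h
    have hup : ¬ Dn P s (wd P l) := by
      unfold Dn
      rw [← wd_cons, h, hl, List.length_cons]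
      omega
    have hsum : (∑ z, Lm P t s x z * if z = wd P l then 1 else 0) = Lm P t s x (wd P l) := by simp
    rw [LW, List.map_cons, List.prod_cons, mul_apply, ← LW]
    simp only [LW_col hl, hsum]
    rw [Lm, of_apply, kap, mu, if_neg hup, if_neg hup, zero_mul, zero_add, one_mul, wd_cons]

/-- Left multiplication by the basis element of `w`. -/
noncomputable def Tm (w : Weyl P) : Matrix (Weyl P) (Weyl P) R :=
  LW P t (exists_reduced P w).choose

/-- Right multiplication by the basis element of `w⁻¹`. -/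
noncomputable def Um (w : Weyl P) : Matrix (Weyl P) (Weyl P) R :=
  (Tm P t w).submatrix Inv.inv Inv.inv

theorem Tm_comm (w : Weyl P) (r : P.S) : Commute (Tm P t w) (Rm P t r) := LW_comm P t _ r

theorem Tm_col (w x : Weyl P) : Tm P t w x 1 = if x = w then 1 else 0 := by
  obtain ⟨h1, h2⟩ := (exists_reduced P w).choose_spec
  have h := LW_col P t (l := (exists_reduced P w).choose) (by rw [Red, h2, h1]) x
  rw [h2] at h
  exact h

theorem Tm_one : Tm P t 1 = 1 :=
  ext_of_comm P t (Tm_comm P t 1) (fun _ => Commute.one_left _) fun x => by rw [Tm_col, one_apply]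

theorem Um_one : Um P t 1 = 1 := by
  rw [Um, Tm_one]
  exact submatrix_one_equiv (Equiv.inv (Weyl P))

theorem Tm_σ (s : P.S) : Tm P t (σ P s) = Lm P t s :=
  ext_of_comm P t (Tm_comm P t _) (Lm_Rm_comm P t s) fun x => by
    rw [Tm_col, Lm, of_apply, kap, mu, if_neg (not_dn_one P s), if_neg (not_dn_one P s), zero_mul,
      zero_add, one_mul, mul_one]

theorem Lm_mul_Tm (s : P.S) (w : Weyl P) :
    Lm P t s * Tm P t w = kap t (Dn P s w) • Tm P t w + mu t (Dn P s w) • Tm P t (σ P s * w) := by
  refine ext_of_comm P t (fun r => (Lm_Rm_comm P t s r).mul_left (Tm_comm P t w r))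
    (fun r => ((Tm_comm P t w r).smul_left _).add_left ((Tm_comm P t _ r).smul_left _)) fun x => ?_
  have hsum : (∑ z, Lm P t s x z * if z = w then 1 else 0) = Lm P t s x w := by simp
  rw [mul_apply, Matrix.add_apply, Matrix.smul_apply, Matrix.smul_apply, smul_eq_mul, smul_eq_mul]
  simp only [Tm_col, hsum]
  rw [Lm, of_apply]

theorem Lm_mul_Tm_of_up {s : P.S} {w : Weyl P} (h : ¬ Dn P s w) :
    Lm P t s * Tm P t w = Tm P t (σ P s * w) := by
  rw [Lm_mul_Tm, kap, mu, if_neg h, if_neg h, zero_smul, zero_add, one_smul]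

theorem Tm_mul : ∀ {p q : Weyl P}, len P (p * q) = len P p + len P q →
    Tm P t p * Tm P t q = Tm P t (p * q) := by
  suffices H : ∀ (n : ℕ) (p q : Weyl P), len P p = n → len P (p * q) = len P p + len P q →
      Tm P t p * Tm P t q = Tm P t (p * q) from fun {p q} h => H _ p q rfl h
  intro n
  induction n with
  | zero => intro p q hp _; rw [len_eq_zero P hp, Tm_one, one_mul, one_mul]
  | succ n ih =>
    intro p q hp h
    obtain ⟨s, p', rfl, hp'⟩ := exists_cons P (q := p) (by omega)
    have h1 : len P (p' * q) = len P p' + len P q := by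
      have := len_mul_le P p' q
      have := len_σ_mul_le P s (p' * q)
      rw [← mul_assoc] at this
      omega
    have hd : ¬ Dn P s p' := by
      unfold Dn
      omega
    have hd' : ¬ Dn P s (p' * q) := by
      unfold Dn
      rw [← mul_assoc]
      omega
    rw [← Lm_mul_Tm_of_up P t hd, mul_assoc, ih p' q (by omega) h1, Lm_mul_Tm_of_up P t hd', mul_assoc]

theorem submatrix_inv_mul (M N : Matrix (Weyl P) (Weyl P) R) :
    M.submatrix Inv.inv Inv.inv * N.submatrix Inv.inv Inv.inv = (M * N).submatrix Inv.inv Inv.inv :=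
  submatrix_mul_equiv M N _ (Equiv.inv (Weyl P)) _

theorem submatrix_inv_inv (M : Matrix (Weyl P) (Weyl P) R) :
    (M.submatrix Inv.inv Inv.inv).submatrix Inv.inv Inv.inv = M := by
  ext x y
  simp

theorem Rm_submatrix (s : P.S) : (Rm P t s).submatrix Inv.inv Inv.inv = Lm P t s :=
  submatrix_inv_inv P _

theorem Lm_comm_Um (s : P.S) (w : Weyl P) : Commute (Lm P t s) (Um P t w) := by
  show _ = _
  rw [← Rm_submatrix P t s, Um, submatrix_inv_mul, submatrix_inv_mul, (Tm_comm P t w s).eq]

theorem Rm_mul_Um (s : P.S) (w : Weyl P) :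
    Rm P t s * Um P t w = kap t (Dn P s w) • Um P t w + mu t (Dn P s w) • Um P t (σ P s * w) := by
  rw [Rm, Um, Um, submatrix_inv_mul, Lm_mul_Tm]
  rfl

theorem Um_mul_Rm_of_up {s : P.S} {w : Weyl P} (h : len P (w * σ P s) = len P w + 1) :
    Um P t w * Rm P t s = Um P t (w * σ P s) := by
  rw [Um, Um, Rm, submatrix_inv_mul, ← Tm_σ, Tm_mul P t (by rw [len_σ, h])]

/-! ### The averaging operator -/

/-- A bound for the lengths. -/
noncomputable def lenBound : ℕ := Finset.univ.sup fun w : Weyl P => len P w

theorem len_le_bound (w : Weyl P) : len P w ≤ lenBound P :=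
  Finset.le_sup (f := fun v => len P v) (Finset.mem_univ w)

/-- The weights of the averaging operator. -/
noncomputable def wt (w : Weyl P) : R := t ^ (lenBound P - len P w)

/-- The averaging operator. -/
noncomputable def Pm : Matrix (Weyl P) (Weyl P) R := ∑ w, wt P t w • (Tm P t w * Um P t w)

/-- Commutation with the generators. -/
noncomputable def Cm : Matrix (P.S × Weyl P) (Weyl P) R :=
  Matrix.of fun p y => (Lm P t p.1 - Rm P t p.1) p.2 y

theorem wt_eq {s : P.S} {w : Weyl P} (h : ¬ Dn P s w) : wt P t w = t * wt P t (σ P s * w) := by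
  rw [wt, wt, ← pow_succ']
  congr 1
  have := len_le_bound P (σ P s * w)
  have : len P (σ P s * w) = len P w + 1 := by
    rcases len_σ_mul_cases P s w with h' | h'
    · exact h'
    · exact absurd (show Dn P s w by unfold Dn; omega) h
  omega

/-- The averaging operator lands in the centre, identically in the parameter. -/
theorem Lm_sub_Rm_mul_Pm (s : P.S) : (Lm P t s - Rm P t s) * Pm P t = 0 := by
  rw [Pm, Finset.mul_sum]
  have hterm : ∀ w, (Lm P t s - Rm P t s) * (Tm P t w * Um P t w) =
      Lm P t s * Tm P t w * Um P t w - Tm P t w * (Rm P t s * Um P t w) := by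
    intro w
    rw [sub_mul, ← mul_assoc, ← mul_assoc (Rm P t s), ← (Tm_comm P t w s).eq, mul_assoc (Tm P t w)]
  simp only [Matrix.mul_smul, hterm]
  refine Finset.sum_involution (fun w _ => σ P s * w) (fun w _ => ?_) (fun w _ _ e => ?_)
    (fun _ _ => Finset.mem_univ _) (fun w _ => σ_mul_σ_mul P s w)
  · rw [Lm_mul_Tm, Lm_mul_Tm, Rm_mul_Um, Rm_mul_Um, σ_mul_σ_mul]
    by_cases h : Dn P s w
    · have h' : ¬ Dn P s (σ P s * w) := fun hd => (dn_σ_mul P s w).1 hd h
      have hw := wt_eq P t h'
      rw [σ_mul_σ_mul] at hw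
      simp only [kap, mu, if_pos h, if_neg h', hw, add_mul, mul_add, smul_mul_assoc, mul_smul_comm,
        zero_smul, one_smul, zero_add]
      module
    · have h' : Dn P s (σ P s * w) := (dn_σ_mul P s w).2 h
      have hw := wt_eq P t h
      simp only [kap, mu, if_pos h', if_neg h, hw, add_mul, mul_add, smul_mul_assoc, mul_smul_comm,
        zero_smul, one_smul, zero_add]
      module
  · exact σ_ne_one P s (mul_eq_right.1 e)

theorem Cm_mul_Pm : Cm P t * Pm P t = 0 := by
  ext ⟨s, x⟩ y
  exact congrFun (congrFun (Lm_sub_Rm_mul_Pm P t s) x) y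

theorem Cm_mulVec_eq_zero_iff (v : Weyl P → R) :
    Cm P t *ᵥ v = 0 ↔ ∀ s, Lm P t s *ᵥ v = Rm P t s *ᵥ v := by
  have e : ∀ s x, (Cm P t *ᵥ v) (s, x) = (Lm P t s *ᵥ v) x - (Rm P t s *ᵥ v) x := fun s x =>
    congrFun (sub_mulVec (Lm P t s) (Rm P t s) v) x
  constructor
  · exact fun h s => funext fun x => sub_eq_zero.1 ((e s x).symm.trans (congrFun h (s, x)))
  · exact fun h => funext fun ⟨s, x⟩ => (e s x).trans (by rw [h s, sub_self]; rfl)

/-! ### Change of rings -/

variable {R' : Type*} [CommRing R'] (f : R →+* R')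

omit [Fintype (Weyl P)] in
theorem Lm_map (s : P.S) : (Lm P t s).map f = Lm P (f t) s := by
  ext x y
  simp only [map_apply, Lm, of_apply, kap, mu, map_add, map_mul, apply_ite f, map_sub, map_one, map_zero]

theorem LW_map (l : List P.S) : (LW P t l).map f = LW P (f t) l := by
  induction l with
  | nil => simp [LW]
  | cons s l ih =>
    simp only [LW, List.map_cons, List.prod_cons, Matrix.map_mul, Lm_map] at ih ⊢
    rw [ih]

theorem Tm_map (w : Weyl P) : (Tm P t w).map f = Tm P (f t) w := LW_map P t f _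

theorem Um_map (w : Weyl P) : (Um P t w).map f = Um P (f t) w := by
  rw [Um, Um, ← Tm_map, submatrix_map]

theorem Pm_map : (Pm P t).map f = Pm P (f t) := by
  show f.mapMatrix (Pm P t) = _
  rw [Pm, Pm, map_sum]
  refine Finset.sum_congr rfl fun w _ => ?_
  have e : ∀ (c : R) (M : Matrix (Weyl P) (Weyl P) R), (c • M).map f = f c • M.map f := fun c M => by
    ext i j
    simp
  rw [RingHom.mapMatrix_apply, e, Matrix.map_mul, Tm_map, Um_map, wt, wt, map_pow]

theorem Cm_map : (Cm P t).map f = Cm P (f t) := by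
  ext ⟨s, x⟩ y
  simp only [map_apply, Cm, of_apply, Matrix.sub_apply, map_sub, Rm, submatrix_apply, ← Lm_map P t f s]

end Algebra

end CfsgLib.HeckeCentre
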