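/-
The number of distinct constituents of a representation is the dimension of the centre of its
commutant algebra.
-/
import Cfsg.Agent.Lib.CharTheory.SelfPaired

set_option autoImplicit false
set_option linter.unusedSectionVars false

namespace CfsgLib.HeckeCentre

open Cfsg CfsgLib.CharTheory
open scoped ComplexConjugate

universe u v

variable {G : Type u} [Group G] [Fintype G]

/-- Convolution of an irreducible character with the conjugate of another one. -/
theorem sum_conj_mul_translate {χ ψ : G → ℂ} (hχ : IsIrrCharacter G χ) (hψ : IsIrrCharacter G ψ) (g : G) :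
    ∑ h : G, conj (χ h) * ψ (h * g) = (Nat.card G : ℂ) * classInner ψ χ * ψ g / ψ 1 := by
  obtain ⟨n, ρ, hρ, rfl⟩ := hψ
  have hf : IsClassFunction G fun h => conj (χ h) := fun x k => by
    show conj (χ (k * x * k⁻¹)) = conj (χ x)
    rw [isClassFunction_irr hχ x k]
  have h1 : ∑ h : G, conj (χ h) * ρ.character (h * g) =
      LinearMap.trace ℂ _ ((∑ h : G, conj (χ h) • ρ h) * ρ g) := by
    rw [Finset.sum_mul, map_sum]
    exact Finset.sum_congr rfl fun h _ => by rw [smul_mul_assoc, map_smul, smul_eq_mul, ← map_mul]; rfl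
  rw [h1, sum_smul_eq_smul_one ρ hf, smul_mul_assoc, one_mul, map_smul, smul_eq_mul,
    show LinearMap.trace ℂ _ (ρ g) = ρ.character g from rfl, ρ.char_one, classInner,
    mul_inv_cancel_left₀ (Nat.cast_ne_zero.mpr Nat.card_pos.ne')]
  rw [show ∑ h : G, conj (χ h) * ρ.character h = ∑ h : G, ρ.character h * conj (χ h) from
    Finset.sum_congr rfl fun h _ => mul_comm _ _]
  ring

variable {V : Type v} [AddCommGroup V] [Module ℂ V] [FiniteDimensional ℂ V] (ρ : Representation ℂ G V)

theorem isoProj_mul {χ ψ : G → ℂ} (hχ : IsIrrCharacter G χ) (hψ : IsIrrCharacter G ψ) :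
    isoProj ρ χ * isoProj ρ ψ = classInner ψ χ • isoProj ρ ψ := by
  simp only [isoProj, Finset.sum_mul, Finset.mul_sum, Finset.smul_sum, smul_mul_smul_comm, ← map_mul,
    smul_smul]
  rw [Finset.sum_comm, Finset.sum_congr rfl fun h _ => (Fintype.sum_equiv (Equiv.mulLeft h)
    (fun k => (χ 1 / (Nat.card G : ℂ) * conj (χ h) * (ψ 1 / (Nat.card G : ℂ) * conj (ψ k))) • ρ (h * k))
    (fun g => (χ 1 / (Nat.card G : ℂ) * conj (χ h) * (ψ 1 / (Nat.card G : ℂ) * conj (ψ (h⁻¹ * g)))) • ρ g)
    fun k => by simp), Finset.sum_comm]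
  refine Finset.sum_congr rfl fun g _ => ?_
  rw [← Finset.sum_smul]
  congr 1
  have e : ∀ h : G, conj (ψ (h⁻¹ * g)) = ψ (h * g⁻¹) := fun h => by
    rw [← char_apply_inv (isCharacter_of_irr hψ), mul_inv_rev, inv_inv,
      ← isClassFunction_irr hψ (g⁻¹ * h) g]
    congr 1
    group
  rw [Finset.sum_congr rfl fun h _ => show χ 1 / (Nat.card G : ℂ) * conj (χ h) * (ψ 1 / (Nat.card G : ℂ) * conj (ψ (h⁻¹ * g))) =
      χ 1 / (Nat.card G : ℂ) * (ψ 1 / (Nat.card G : ℂ)) * (conj (χ h) * ψ (h * g⁻¹)) by rw [e]; ring,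
    ← Finset.mul_sum, sum_conj_mul_translate hχ hψ, char_apply_inv (isCharacter_of_irr hψ)]
  have hG : (Nat.card G : ℂ) ≠ 0 := Nat.cast_ne_zero.mpr Nat.card_pos.ne'
  have hd : ψ 1 ≠ 0 := irr_ne_zero hψ
  by_cases hc : χ = ψ
  · subst hc
    rw [classInner_irr_self hχ]
    field_simp
  · rw [classInner_irr_ne hψ hχ (Ne.symm hc)]
    simp

theorem isoProj_ne_zero {χ : G → ℂ} (hχ : IsIrrCharacter G χ) (h : classInner ρ.character χ ≠ 0) :
    isoProj ρ χ ≠ 0 := by
  intro h0
  have h1 := congrArg (LinearMap.trace ℂ V) h0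
  rw [isoProj, map_sum, map_zero] at h1
  refine mul_ne_zero (irr_ne_zero hχ) h ?_
  rw [← h1, classInner, Finset.mul_sum, Finset.mul_sum]
  refine Finset.sum_congr rfl fun g _ => ?_
  rw [map_smul, smul_eq_mul, show LinearMap.trace ℂ V (ρ g) = ρ.character g from rfl]
  ring

/-- The centre of the commutant algebra. -/
def commCentre : Submodule ℂ (Module.End ℂ V) where
  carrier := {S | (∀ g, S * ρ g = ρ g * S) ∧ ∀ T : Module.End ℂ V, (∀ g, T * ρ g = ρ g * T) → S * T = T * S}
  zero_mem' := ⟨fun g => by rw [zero_mul, mul_zero], fun T _ => by rw [zero_mul, mul_zero]⟩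
  add_mem' := fun ha hb =>
    ⟨fun g => by rw [add_mul, mul_add, ha.1 g, hb.1 g], fun T hT => by rw [add_mul, mul_add, ha.2 T hT, hb.2 T hT]⟩
  smul_mem' := fun c S hS =>
    ⟨fun g => by rw [smul_mul_assoc, mul_smul_comm, hS.1 g],
      fun T hT => by rw [smul_mul_assoc, mul_smul_comm, hS.2 T hT]⟩

theorem weightedSum_mem {f : G → ℂ} (hf : IsClassFunction G f) : ∑ x : G, f x • ρ x ∈ commCentre ρ := by
  constructor
  · intro k
    rw [Finset.sum_mul, Finset.mul_sum]
    refine Fintype.sum_equiv (MulAut.conj k⁻¹).toEquiv _ _ fun x => ?_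
    show f x • ρ x * ρ k = ρ k * (f (k⁻¹ * x * k⁻¹⁻¹) • ρ (k⁻¹ * x * k⁻¹⁻¹))
    rw [hf x k⁻¹, smul_mul_assoc, mul_smul_comm, ← map_mul, ← map_mul]
    congr 2
    group
  · intro T hT
    rw [Finset.sum_mul, Finset.mul_sum]
    exact Finset.sum_congr rfl fun x _ => by rw [smul_mul_assoc, mul_smul_comm, hT]

theorem weightedSum_eq {f : G → ℂ} (hf : IsClassFunction G f) :
    ∑ x : G, f x • ρ x = ∑ χ : IrrCharacter G,
      (conj (classInner (fun g => conj (f g)) (χ : G → ℂ)) * ((Nat.card G : ℂ) / (χ : G → ℂ) 1)) •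
        isoProj ρ (χ : G → ℂ) := by
  have hcf : IsClassFunction G fun g => conj (f g) := fun x k => by
    show conj (f (k * x * k⁻¹)) = conj (f x)
    rw [hf x k]
  simp only [isoProj, Finset.smul_sum, smul_smul]
  rw [Finset.sum_comm]
  refine Finset.sum_congr rfl fun x _ => ?_
  rw [← Finset.sum_smul]
  congr 1
  have h := congrFun (eq_sum_irr hcf) x
  simp only [Finset.sum_apply, Pi.smul_apply, smul_eq_mul] at h
  have h' := congrArg conj h
  simp only [map_sum, map_mul, Complex.conj_conj] at h'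
  rw [h']
  refine Finset.sum_congr rfl fun χ _ => ?_
  have hG : (Nat.card G : ℂ) ≠ 0 := Nat.cast_ne_zero.mpr Nat.card_pos.ne'
  have hd : (χ : G → ℂ) 1 ≠ 0 := irr_ne_zero χ.2
  field_simp

theorem span_eq : commCentre ρ =
    Submodule.span ℂ (Set.range fun χ : {χ : IrrCharacter G // classInner ρ.character (χ : G → ℂ) ≠ 0} =>
      isoProj ρ (χ.1 : G → ℂ)) := by
  classical
  refine le_antisymm (fun S hS => ?_) (Submodule.span_le.2 ?_)
  · -- the averaging argument
    set Q : Module.End ℂ V := ∑ g : G, ρ.character g⁻¹ • ρ g with hQ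
    have hSQ : S * Q = ∑ g : G, LinearMap.trace ℂ V (ρ g⁻¹ * S) • ρ g := by
      let b := Module.finBasis ℂ V
      have htr : ∀ T : Module.End ℂ V, LinearMap.trace ℂ V T = ∑ i, b.coord i (T (b i)) := fun T => by
        rw [LinearMap.trace_eq_matrix_trace ℂ b, Matrix.trace]
        simp [LinearMap.toMatrix_apply, Module.Basis.coord_apply]
      refine LinearMap.ext fun u => ?_
      have key : ∀ i, S (∑ g : G, b.coord i (ρ g⁻¹ (b i)) • ρ g u) =
          ∑ g : G, b.coord i (ρ g⁻¹ (S (b i))) • ρ g u := by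
        intro i
        let T0 : Module.End ℂ V := (b.coord i).smulRight u
        have hT : ∀ k, (∑ g : G, ρ g * T0 * ρ g⁻¹) * ρ k = ρ k * ∑ g : G, ρ g * T0 * ρ g⁻¹ := by
          intro k
          rw [Finset.sum_mul, Finset.mul_sum]
          refine Fintype.sum_equiv (Equiv.mulLeft k⁻¹) _ _ fun g => ?_
          simp only [Equiv.coe_mulLeft, mul_inv_rev, inv_inv, map_mul, mul_assoc]
          rw [← mul_assoc (ρ k) (ρ k⁻¹), ← map_mul ρ k k⁻¹, mul_inv_cancel, map_one, one_mul]
        have h := LinearMap.congr_fun (hS.2 _ hT) (b i)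
        simpa [T0, LinearMap.sum_apply, map_sum] using h
      simp only [Module.End.mul_apply, hQ, LinearMap.sum_apply, LinearMap.smul_apply,
        show ∀ g : G, ρ.character g = ∑ i, b.coord i (ρ g (b i)) from fun g => htr (ρ g), htr,
        Finset.sum_smul, map_sum]
      rw [Finset.sum_comm]
      conv_rhs => rw [Finset.sum_comm]
      exact Finset.sum_congr rfl fun i _ => by rw [← key i, map_sum]
    have ha : IsClassFunction G fun g => LinearMap.trace ℂ V (ρ g⁻¹ * S) := fun x k => by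
      show LinearMap.trace ℂ V (ρ (k * x * k⁻¹)⁻¹ * S) = LinearMap.trace ℂ V (ρ x⁻¹ * S)
      rw [show (k * x * k⁻¹)⁻¹ = k * x⁻¹ * k⁻¹ by group, map_mul ρ, map_mul ρ, mul_assoc (ρ k * ρ x⁻¹),
        ← hS.1, mul_assoc (ρ k), LinearMap.trace_mul_comm, mul_assoc, mul_assoc, ← map_mul ρ,
        inv_mul_cancel, map_one, mul_one]
    have hπ : IsClassFunction G fun g => ρ.character g⁻¹ := fun x k => by
      show ρ.character (k * x * k⁻¹)⁻¹ = ρ.character x⁻¹
      rw [show (k * x * k⁻¹)⁻¹ = k * x⁻¹ * k⁻¹ by group]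
      exact ρ.char_conj x⁻¹ k
    have hπ' : (fun g => conj (ρ.character g⁻¹)) = ρ.character := funext fun g => by
      rw [conj_char, inv_inv]
    set R : Module.End ℂ V := ∑ χ : IrrCharacter G,
      ((χ : G → ℂ) 1 / ((Nat.card G : ℂ) * classInner ρ.character (χ : G → ℂ))) • isoProj ρ (χ : G → ℂ) with hR
    have hQR : Q * R = 1 := by
      rw [hQ, weightedSum_eq ρ hπ, hπ', hR, Finset.sum_mul, ← sum_isoProj ρ]
      refine Finset.sum_congr rfl fun χ _ => ?_
      rw [Finset.mul_sum, Finset.sum_eq_single χ]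
      · rw [smul_mul_smul_comm, isoProj_mul ρ χ.2 χ.2, classInner_irr_self χ.2, one_smul]
        by_cases h0 : classInner ρ.character (χ : G → ℂ) = 0
        · rw [isoProj_eq_zero ρ χ.2 h0, smul_zero]
        · obtain ⟨m, hm⟩ := classInner_char_nat (isCharacter_character ρ) (isCharacter_of_irr χ.2)
          rw [hm] at h0 ⊢
          have hG : (Nat.card G : ℂ) ≠ 0 := Nat.cast_ne_zero.mpr Nat.card_pos.ne'
          have hd : (χ : G → ℂ) 1 ≠ 0 := irr_ne_zero χ.2
          rw [Complex.conj_natCast]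
          have e : (m : ℂ) * ((Nat.card G : ℂ) / (χ : G → ℂ) 1) * ((χ : G → ℂ) 1 / ((Nat.card G : ℂ) * m)) = 1 := by
            field_simp
          rw [e, one_smul]
      · intro ψ _ hne
        rw [smul_mul_smul_comm, isoProj_mul ρ χ.2 ψ.2,
          classInner_irr_ne ψ.2 χ.2 (fun e => hne (Subtype.ext e)), zero_smul, smul_zero]
      · exact fun h => absurd (Finset.mem_univ _) h
    rw [← mul_one S, ← hQR, ← mul_assoc, hSQ, weightedSum_eq ρ ha, hR, Finset.sum_mul]
    refine Submodule.sum_mem _ fun χ _ => ?_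
    rw [Finset.mul_sum]
    refine Submodule.sum_mem _ fun ψ _ => ?_
    rw [smul_mul_smul_comm, isoProj_mul ρ χ.2 ψ.2]
    by_cases h0 : classInner ρ.character (ψ : G → ℂ) = 0
    · rw [isoProj_eq_zero ρ ψ.2 h0, smul_zero, smul_zero]
      exact Submodule.zero_mem _
    · exact Submodule.smul_mem _ _ (Submodule.smul_mem _ _ (Submodule.subset_span ⟨⟨ψ, h0⟩, rfl⟩))
  · rintro _ ⟨χ, rfl⟩
    exact weightedSum_mem ρ (isClassFunction_isoWeight χ.1.2)

theorem finrank_commCentre : Module.finrank ℂ (commCentre ρ) =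
    Nat.card {χ : IrrCharacter G // classInner ρ.character (χ : G → ℂ) ≠ 0} := by
  classical
  rw [span_eq, finrank_span_eq_card, Nat.card_eq_fintype_card]
  rw [Fintype.linearIndependent_iff]
  intro c hc χ
  have h := congrArg (fun M => isoProj ρ (χ.1 : G → ℂ) * M) hc
  simp only [Finset.mul_sum, mul_smul_comm, mul_zero] at h
  rw [Finset.sum_eq_single χ (fun ψ _ hne => by
      rw [isoProj_mul ρ χ.1.2 ψ.1.2,
        classInner_irr_ne ψ.1.2 χ.1.2 (fun e => hne (Subtype.ext (Subtype.ext e))), zero_smul, smul_zero])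
    (fun h => absurd (Finset.mem_univ _) h),
    isoProj_mul ρ χ.1.2 χ.1.2, classInner_irr_self χ.1.2, one_smul, smul_eq_zero] at h
  exact h.resolve_right (isoProj_ne_zero ρ χ.1.2 χ.2)

/-- An irreducible character can be split off a character exactly when it occurs in it. -/
theorem exists_add_iff {π χ : G → ℂ} (hπ : IsCharacter G π) (hχ : IsIrrCharacter G χ) :
    (∃ φ : G → ℂ, IsCharacter G φ ∧ π = χ + φ) ↔ classInner π χ ≠ 0 := by
  constructor
  · rintro ⟨φ, hφ, rfl⟩
    obtain ⟨n, hn⟩ := classInner_char_nat hφ (isCharacter_of_irr hχ)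
    rw [classInner_add_left, classInner_irr_self hχ, hn, ← Nat.cast_one, ← Nat.cast_add, Nat.cast_ne_zero]
    omega
  · intro h
    refine ⟨π - χ, (isCharacter_iff_coeff_nat).2
      ⟨isClassFunction_sub (isClassFunction_char hπ) (isClassFunction_irr hχ), fun ψ hψ => ?_⟩, by abel⟩
    obtain ⟨n, hn⟩ := classInner_char_nat hπ (isCharacter_of_irr hψ)
    rw [classInner_sub_left, hn]
    by_cases hc : χ = ψ
    · subst hc
      rw [classInner_irr_self hχ]
      rw [hn, Nat.cast_ne_zero] at h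
      exact ⟨n - 1, by rw [Nat.cast_sub (Nat.one_le_iff_ne_zero.2 h), Nat.cast_one]⟩
    · exact ⟨n, by rw [classInner_irr_ne hχ hψ hc, sub_zero]⟩

end CfsgLib.HeckeCentre
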