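/-
The centre of the one-parameter Hecke algebra has the same dimension for every positive parameter,
namely the number of conjugacy classes of the Weyl group.
-/
import Cfsg.Agent.Lib.HeckeCentre.Basic
import Mathlib.LinearAlgebra.Matrix.Rank
import Mathlib.LinearAlgebra.Matrix.ToLinearEquiv
import Mathlib.FieldTheory.RatFunc.Basic
import Mathlib.Analysis.Complex.Basic
import Mathlib.GroupTheory.GroupAction.ConjAct

set_option autoImplicit false
set_option linter.unusedSectionVars false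

namespace CfsgLib.HeckeCentre

open CfsgLib.BN Matrix Polynomial

/-- Specialisation cannot raise the rank. -/
theorem rank_eval_le {m n : Type*} [Fintype m] [Fintype n] [DecidableEq m] [DecidableEq n]
    (M : Matrix m n ℂ[X]) (z : ℂ) :
    (M.map (evalRingHom z)).rank ≤ (M.map (algebraMap ℂ[X] (RatFunc ℂ))).rank := by
  set M0 := M.map (evalRingHom z) with hM0
  let L : (n → ℂ) →ₗ[ℂ] (m → ℂ) := Matrix.toLin' M0
  have hr : M0.rank = Module.finrank ℂ (LinearMap.range L) := rfl
  let e : LinearMap.range L ≃ₗ[ℂ] (Fin M0.rank → ℂ) :=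
    LinearEquiv.ofFinrankEq _ _ (by rw [Module.finrank_fin_fun, hr])
  obtain ⟨p, hp⟩ := LinearMap.exists_extend e.toLinearMap
  obtain ⟨g, hg⟩ := (e.toLinearMap ∘ₗ L.rangeRestrict).exists_rightInverse_of_surjective
    (LinearMap.range_eq_top.2 (e.surjective.comp L.surjective_rangeRestrict))
  have h1 : p ∘ₗ L ∘ₗ g = LinearMap.id := LinearMap.ext fun x => by
    have a := LinearMap.congr_fun hp (L.rangeRestrict (g x))
    have b := LinearMap.congr_fun hg x
    exact a.trans b
  have h2 : LinearMap.toMatrix' p * M0 * LinearMap.toMatrix' g = 1 := by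
    have h := congrArg LinearMap.toMatrix' h1
    rw [LinearMap.toMatrix'_comp, LinearMap.toMatrix'_comp, LinearMap.toMatrix'_toLin',
      LinearMap.toMatrix'_id, ← Matrix.mul_assoc] at h
    exact h
  set N : Matrix (Fin M0.rank) (Fin M0.rank) ℂ[X] :=
    (LinearMap.toMatrix' p).map Polynomial.C * M * (LinearMap.toMatrix' g).map Polynomial.C with hN
  have h3 : N.map (evalRingHom z) = 1 := by
    rw [hN, Matrix.map_mul, Matrix.map_mul, ← hM0, ← h2]
    congr 2 <;> ext i j <;> simp
  have hdet : N.det ≠ 0 := fun h0 => by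
    have h := RingHom.map_det (evalRingHom z) N
    rw [h0, map_zero, RingHom.mapMatrix_apply, h3, det_one] at h
    exact zero_ne_one h
  have hK : IsUnit (N.map (algebraMap ℂ[X] (RatFunc ℂ))) := by
    rw [isUnit_iff_isUnit_det, ← RingHom.mapMatrix_apply, ← RingHom.map_det, isUnit_iff_ne_zero,
      Ne, map_eq_zero_iff _ (IsFractionRing.injective ℂ[X] (RatFunc ℂ))]
    exact hdet
  have h4 := rank_of_isUnit _ hK
  rw [Fintype.card_fin, hN, Matrix.map_mul, Matrix.map_mul] at h4
  exact h4.ge.trans ((rank_mul_le_left _ _).trans (rank_mul_le_right _ _))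

variable {G : Type*} [Group G] (P : Cfsg.BNPair G)
variable [Fintype (Weyl P)] [DecidableEq (Weyl P)]

/-- The form making left multiplications self-adjoint. -/
noncomputable def Dg {R : Type*} [CommRing R] (t : R) : Matrix (Weyl P) (Weyl P) R :=
  Matrix.diagonal fun w => t ^ len P w

theorem Dg_mul_Lm {R : Type*} [CommRing R] (t : R) (s : P.S) :
    Dg P t * Lm P t s = (Lm P t s)ᵀ * Dg P t := by
  ext x y
  rw [Dg, diagonal_mul, mul_diagonal, transpose_apply]
  simp only [Lm, of_apply]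
  by_cases h1 : x = y
  · subst h1
    ring
  rw [if_neg h1, if_neg (fun e : y = x => h1 e.symm), mul_zero, mul_zero, zero_add, zero_add]
  by_cases h2 : x = σ P s * y
  · subst h2
    rw [if_pos rfl, if_pos (σ_mul_σ_mul P s y).symm]
    by_cases h : Dn P s y
    · have h' : ¬ Dn P s (σ P s * y) := fun hd => (dn_σ_mul P s y).1 hd h
      simp only [mu, if_pos h, if_neg h', mul_one, one_mul]
      rw [← pow_succ]
      congr 1
      unfold Dn at h
      rcases len_σ_mul_cases P s y with h3 | h3 <;> omega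
    · have h' : Dn P s (σ P s * y) := (dn_σ_mul P s y).2 h
      simp only [mu, if_neg h, if_pos h', mul_one, one_mul]
      rw [← pow_succ']
      congr 1
      unfold Dn at h
      rcases len_σ_mul_cases P s y with h3 | h3 <;> omega
  · rw [if_neg h2, if_neg (fun e : y = σ P s * x => h2 (by rw [e, σ_mul_σ_mul]))]
    ring

theorem Dg_mul_Tm {R : Type*} [CommRing R] (t : R) (w : Weyl P) :
    Dg P t * Tm P t w = (Tm P t w⁻¹)ᵀ * Dg P t := by
  suffices H : ∀ (n : ℕ) (w : Weyl P), len P w = n → Dg P t * Tm P t w = (Tm P t w⁻¹)ᵀ * Dg P t from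
    H _ w rfl
  intro n
  induction n with
  | zero => intro w hw; rw [len_eq_zero P hw, inv_one, Tm_one, mul_one, transpose_one, one_mul]
  | succ n ih =>
    intro w hw
    obtain ⟨s, p, rfl, hp⟩ := exists_cons P (q := w) (by omega)
    rw [← Tm_mul P t (p := σ P s) (q := p) (by rw [len_σ]; omega), _root_.mul_inv_rev, σ_inv,
      ← Tm_mul P t (p := p⁻¹) (q := σ P s) (by
        rw [show p⁻¹ * σ P s = (σ P s * p)⁻¹ by rw [_root_.mul_inv_rev, σ_inv], len_inv, len_inv, len_σ]
        omega),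
      Tm_σ, transpose_mul, ← mul_assoc, Dg_mul_Lm, mul_assoc, ih p (by omega), mul_assoc]

/-- The operator which the averaging operator induces on the centre. -/
noncomputable def cmat {R : Type*} [CommRing R] (t : R) : Matrix (Weyl P) (Weyl P) R :=
  ∑ w, wt P t w • (Tm P t w * Tm P t w⁻¹)

theorem isUnit_cmat {τ : ℝ} (hτ : 0 < τ) : IsUnit (cmat P τ) := by
  rw [← mulVec_injective_iff_isUnit]
  suffices H : ∀ v : Weyl P → ℝ, cmat P τ *ᵥ v = 0 → v = 0 from fun a b h => by
    refine sub_eq_zero.1 (H _ ?_)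
    rw [mulVec_sub, sub_eq_zero]
    exact h
  intro v hv
  have key : ∀ w, v ⬝ᵥ (Dg P τ *ᵥ ((Tm P τ w * Tm P τ w⁻¹) *ᵥ v)) =
      ∑ x, τ ^ len P x * ((Tm P τ w⁻¹ *ᵥ v) x * (Tm P τ w⁻¹ *ᵥ v) x) := by
    intro w
    rw [mulVec_mulVec, ← mul_assoc, Dg_mul_Tm, mul_assoc, ← mulVec_mulVec, ← mulVec_mulVec,
      dotProduct_mulVec, vecMul_transpose, dotProduct]
    refine Finset.sum_congr rfl fun x _ => ?_
    rw [Dg, mulVec_diagonal]
    ring
  have hsum : ∑ w, wt P τ w * ∑ x, τ ^ len P x * ((Tm P τ w⁻¹ *ᵥ v) x * (Tm P τ w⁻¹ *ᵥ v) x) = 0 := by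
    have h0 : v ⬝ᵥ (Dg P τ *ᵥ (cmat P τ *ᵥ v)) = 0 := by rw [hv, mulVec_zero, dotProduct_zero]
    rw [cmat, sum_mulVec, mulVec_sum, dotProduct_sum] at h0
    refine Eq.trans (Finset.sum_congr rfl fun w _ => ?_) h0
    rw [smul_mulVec, mulVec_smul, dotProduct_smul, key, smul_eq_mul]
  have hw : ∀ w : Weyl P, 0 < wt P τ w := fun w => pow_pos hτ _
  have hx : ∀ (w x : Weyl P), 0 ≤ τ ^ len P x * ((Tm P τ w⁻¹ *ᵥ v) x * (Tm P τ w⁻¹ *ᵥ v) x) :=
    fun w x => mul_nonneg (pow_pos hτ _).le (mul_self_nonneg _)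
  have h1 := (Finset.sum_eq_zero_iff_of_nonneg fun w _ =>
    mul_nonneg (hw w).le (Finset.sum_nonneg fun x _ => hx w x)).1 hsum 1 (Finset.mem_univ _)
  rw [mul_eq_zero, or_iff_right (hw 1).ne',
    Finset.sum_eq_zero_iff_of_nonneg fun x _ => hx 1 x] at h1
  funext x
  have h2 := h1 x (Finset.mem_univ _)
  rw [mul_eq_zero, or_iff_right (pow_pos hτ _).ne', mul_self_eq_zero, inv_one, Tm_one, one_mulVec] at h2
  exact h2

/-- On the centre left and right multiplications agree. -/
theorem Tm_mulVec_centre {R : Type*} [CommRing R] (t : R) {v : Weyl P → R}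
    (hv : ∀ s, Lm P t s *ᵥ v = Rm P t s *ᵥ v) (w : Weyl P) :
    Tm P t w *ᵥ v = Um P t w⁻¹ *ᵥ v := by
  suffices H : ∀ (n : ℕ) (w : Weyl P), len P w = n → Tm P t w *ᵥ v = Um P t w⁻¹ *ᵥ v from H _ w rfl
  intro n
  induction n with
  | zero => intro w hw; rw [len_eq_zero P hw, inv_one, Tm_one, Um_one]
  | succ n ih =>
    intro w hw
    obtain ⟨s, p, rfl, hp⟩ := exists_cons P (q := w) (by omega)
    have hd : ¬ Dn P s p := by
      unfold Dn
      omega
    rw [← Lm_mul_Tm_of_up P t hd, ← mulVec_mulVec, ih p (by omega), mulVec_mulVec,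
      (Lm_comm_Um P t s p⁻¹).eq, ← mulVec_mulVec, hv, mulVec_mulVec, Um_mul_Rm_of_up, _root_.mul_inv_rev,
      σ_inv]
    rw [show p⁻¹ * σ P s = (σ P s * p)⁻¹ by rw [_root_.mul_inv_rev, σ_inv], len_inv, len_inv]
    omega

theorem Pm_mulVec_centre {R : Type*} [CommRing R] (t : R) {v : Weyl P → R}
    (hv : ∀ s, Lm P t s *ᵥ v = Rm P t s *ᵥ v) : Pm P t *ᵥ v = cmat P t *ᵥ v := by
  rw [Pm, cmat, sum_mulVec, sum_mulVec]
  refine Finset.sum_congr rfl fun w _ => ?_
  rw [smul_mulVec, smul_mulVec, ← mulVec_mulVec, ← mulVec_mulVec, Tm_mulVec_centre P t hv w⁻¹, inv_inv]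

theorem cmat_map {R R' : Type*} [CommRing R] [CommRing R'] (t : R) (f : R →+* R') :
    f.mapMatrix (cmat P t) = cmat P (f t) := by
  rw [cmat, cmat, map_sum]
  refine Finset.sum_congr rfl fun w _ => ?_
  have e : ∀ (c : R) (M : Matrix (Weyl P) (Weyl P) R), (c • M).map f = f c • M.map f := fun c M => by
    ext i j
    simp
  rw [RingHom.mapMatrix_apply, e, Matrix.map_mul, Tm_map, Tm_map, wt, wt, map_pow]

variable [Fintype P.S] [DecidableEq P.S]

/-- The centre of the algebra with parameter `t`. -/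
noncomputable def centre (t : ℂ) : Submodule ℂ (Weyl P → ℂ) := LinearMap.ker (Cm P t).mulVecLin

theorem mem_centre {t : ℂ} {v : Weyl P → ℂ} :
    v ∈ centre P t ↔ ∀ s, Lm P t s *ᵥ v = Rm P t s *ᵥ v := by
  rw [centre, LinearMap.mem_ker, mulVecLin_apply, Cm_mulVec_eq_zero_iff]

theorem rank_add_finrank (t : ℂ) :
    (Cm P t).rank + Module.finrank ℂ (centre P t) = Fintype.card (Weyl P) :=
  (LinearMap.finrank_range_add_finrank_ker (Cm P t).mulVecLin).trans
    (Module.finrank_fintype_fun_eq_card ℂ)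

theorem rank_Cm_eq {τ : ℝ} (hτ : 0 < τ) :
    (Cm P (τ : ℂ)).rank = (Cm P (algebraMap ℂ[X] (RatFunc ℂ) X)).rank := by
  have hc : Function.Injective (cmat P (τ : ℂ)).mulVec := by
    rw [mulVec_injective_iff_isUnit]
    have h := (isUnit_cmat P hτ).map Complex.ofRealHom.mapMatrix
    rwa [cmat_map] at h
  have hle : Module.finrank ℂ (centre P (τ : ℂ)) ≤ (Pm P (τ : ℂ)).rank := by
    let f : centre P (τ : ℂ) →ₗ[ℂ] LinearMap.range (Pm P (τ : ℂ)).mulVecLin :=
      (Pm P (τ : ℂ)).mulVecLin.rangeRestrict ∘ₗ (centre P (τ : ℂ)).subtype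
    refine LinearMap.finrank_le_finrank_of_injective (f := f) fun a b hab => Subtype.ext (hc ?_)
    have h := congrArg Subtype.val hab
    change Pm P (τ : ℂ) *ᵥ (a : Weyl P → ℂ) = Pm P (τ : ℂ) *ᵥ (b : Weyl P → ℂ) at h
    rwa [Pm_mulVec_centre P _ ((mem_centre P).1 a.2), Pm_mulVec_centre P _ ((mem_centre P).1 b.2)] at h
  have h1 : (Cm P (τ : ℂ)).rank ≤ (Cm P (algebraMap ℂ[X] (RatFunc ℂ) X)).rank := by
    have h := rank_eval_le (Cm P (X : ℂ[X])) (τ : ℂ)
    rwa [Cm_map, Cm_map, coe_evalRingHom, eval_X] at h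
  have h2 : (Pm P (τ : ℂ)).rank ≤ (Pm P (algebraMap ℂ[X] (RatFunc ℂ) X)).rank := by
    have h := rank_eval_le (Pm P (X : ℂ[X])) (τ : ℂ)
    rwa [Pm_map, Pm_map, coe_evalRingHom, eval_X] at h
  have h3 := rank_add_rank_le_card_of_mul_eq_zero (Cm_mul_Pm P (algebraMap ℂ[X] (RatFunc ℂ) X))
  have h4 := rank_add_finrank P (τ : ℂ)
  omega

/-- At `t = 1` the centre consists of the class functions. -/
theorem finrank_centre_one : Module.finrank ℂ (centre P 1) = Nat.card (ConjClasses (Weyl P)) := by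
  classical
  have hmem : ∀ v : Weyl P → ℂ, v ∈ centre P 1 ↔ ∀ (s : P.S) x, v (σ P s * x) = v (x * σ P s) := by
    intro v
    have eL : ∀ s x, (Lm P (1 : ℂ) s *ᵥ v) x = v (σ P s * x) := fun s x => by
      rw [mulVec, dotProduct, Finset.sum_eq_single (σ P s * x)]
      · simp [Lm, kap, mu, sub_self]
      · intro y _ hy
        have hne : x ≠ σ P s * y := fun e => hy (by rw [e, σ_mul_σ_mul])
        simp [Lm, kap, mu, hne]
      · exact fun h => absurd (Finset.mem_univ _) h
    have eR : ∀ s x, (Rm P (1 : ℂ) s *ᵥ v) x = v (x * σ P s) := fun s x => by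
      have hx : x * σ P s * σ P s = x := by rw [mul_assoc, σ_mul_self, mul_one]
      rw [mulVec, dotProduct, Finset.sum_eq_single (x * σ P s)]
      · simp [Rm_apply, kap, mu, hx]
      · intro y _ hy
        have hne : x ≠ y * σ P s := fun e => hy (by rw [e, mul_assoc, σ_mul_self, mul_one])
        simp [Rm_apply, kap, mu, hne]
      · exact fun h => absurd (Finset.mem_univ _) h
    rw [mem_centre]
    constructor
    · intro h s x
      have h' := congrFun (h s) x
      rwa [eL, eR] at h'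
    · intro h s
      funext x
      rw [eL, eR]
      exact h s x
  have hconj : ∀ v ∈ centre P 1, ∀ (g x : Weyl P), v (g * x * g⁻¹) = v x := by
    intro v hv g
    obtain ⟨l, rfl⟩ := exists_word P g
    induction l with
    | nil => intro x; simp
    | cons s l ih =>
      intro x
      have h := (hmem v).1 hv s (wd P l * x * (wd P l)⁻¹ * σ P s)
      rw [mul_assoc _ (σ P s) (σ P s), σ_mul_self, mul_one] at h
      rw [wd_cons, _root_.mul_inv_rev, σ_inv,
        show σ P s * wd P l * x * ((wd P l)⁻¹ * σ P s) = σ P s * (wd P l * x * (wd P l)⁻¹ * σ P s) by group,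
        h, ih]
  let f : (ConjClasses (Weyl P) → ℂ) →ₗ[ℂ] centre P 1 :=
    LinearMap.codRestrict _ (LinearMap.funLeft ℂ ℂ ConjClasses.mk) fun φ => (hmem _).2 fun s x => by
      simp only [LinearMap.funLeft_apply]
      refine congrArg φ (ConjClasses.mk_eq_mk_iff_isConj.2 (isConj_iff.2 ⟨σ P s, ?_⟩))
      rw [σ_inv, σ_mul_σ_mul]
  have hf : Function.Bijective f := by
    constructor
    · intro a b hab
      funext c
      obtain ⟨x, rfl⟩ := ConjClasses.mk_surjective c
      exact congrFun (congrArg Subtype.val hab) x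
    · intro v
      refine ⟨fun c => Quotient.liftOn c (v : Weyl P → ℂ) fun a b hab => ?_, Subtype.ext (funext fun x => rfl)⟩
      obtain ⟨g, hg⟩ := isConj_iff.1 hab
      rw [← hg, hconj v v.2]
  rw [← (LinearEquiv.ofBijective f hf).finrank_eq, Module.finrank_fintype_fun_eq_card,
    Nat.card_eq_fintype_card]

/-- The centre has the dimension of the space of class functions for every positive parameter. -/
theorem finrank_centre {τ : ℝ} (hτ : 0 < τ) :
    Module.finrank ℂ (centre P (τ : ℂ)) = Nat.card (ConjClasses (Weyl P)) := by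
  have h1 := rank_Cm_eq P (τ := 1) one_pos
  have h2 := rank_Cm_eq P hτ
  have h3 := rank_add_finrank P (τ : ℂ)
  have h4 := rank_add_finrank P ((1 : ℝ) : ℂ)
  rw [Complex.ofReal_one] at h1 h4
  rw [← finrank_centre_one P]
  omega

end CfsgLib.HeckeCentre
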