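/-
For a finite BN-pair with uniform parameters the irreducible constituents of the permutation
character on the cosets of `B` are as many as the conjugacy classes of the Weyl group.
-/
import Cfsg.Agent.Lib.FeitHigman.Hecke
import Cfsg.Agent.Lib.HeckeCentre.Rank
import Cfsg.Agent.Lib.HeckeCentre.Count
import Cfsg.Prelude.Def_ParabolicCharacters

set_option autoImplicit false
set_option linter.unusedSectionVars false

namespace CfsgLib.HeckeCentre

open Cfsg CfsgLib.BN CfsgLib.FeitHigman CfsgLib.CharTheory Matrix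

variable {G : Type*} [Group G] [Finite G] (P : Cfsg.BNPair G)

theorem T_transpose (q : Weyl P) : (T P q)ᵀ = T P q⁻¹ := by
  classical
  ext x y
  obtain ⟨g, rfl⟩ := QuotientGroup.mk_surjective x
  obtain ⟨h, rfl⟩ := QuotientGroup.mk_surjective y
  rw [transpose_apply, T_apply, T_apply]
  refine if_congr ⟨fun hm => ?_, fun hm => ?_⟩ rfl rfl
  · have := inv_mem_cell P hm
    rwa [_root_.mul_inv_rev, inv_inv] at this
  · have := inv_mem_cell P hm
    rwa [_root_.mul_inv_rev, inv_inv, inv_inv] at this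

variable [Fintype (Weyl P)] [DecidableEq (Weyl P)]

/-- The intertwining operator with given coefficients. -/
noncomputable def opMat : (Weyl P → ℂ) →ₗ[ℂ] Matrix (G ⧸ P.B) (G ⧸ P.B) ℂ :=
  Fintype.linearCombination ℂ (T P)

theorem opMat_eq (h : Weyl P → ℂ) : opMat P h = ∑ q, h q • T P q :=
  Fintype.linearCombination_apply ℂ (T P) h

theorem opMat_apply (h : Weyl P → ℂ) (g k : G) {q : Weyl P} (hq : g⁻¹ * k ∈ cell P q) :
    opMat P h (g : G ⧸ P.B) (k : G ⧸ P.B) = h q := by
  classical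
  rw [opMat_eq, Matrix.sum_apply, Finset.sum_eq_single q]
  · rw [Matrix.smul_apply, T_apply, if_pos hq, smul_eq_mul, mul_one]
  · intro r _ hr
    rw [Matrix.smul_apply, T_apply, if_neg (fun hc => hr (cell_unique P hc hq)), smul_zero]
  · exact fun hn => absurd (Finset.mem_univ _) hn

theorem opMat_injective : Function.Injective (opMat P) := fun a b hab => funext fun q => by
  obtain ⟨y, hy⟩ := cell_nonempty P q
  have h1 : (1 : G)⁻¹ * y ∈ cell P q := by rwa [inv_one, one_mul]
  rw [← opMat_apply P a 1 y h1, ← opMat_apply P b 1 y h1, hab]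

/-- An invariant matrix. -/
def Inv' (M : Matrix (G ⧸ P.B) (G ⧸ P.B) ℂ) : Prop :=
  ∀ (g : G) (x y : G ⧸ P.B), M (g • x) (g • y) = M x y

theorem opMat_inv (h : Weyl P → ℂ) : Inv' P (opMat P h) := by
  intro g x y
  obtain ⟨a, rfl⟩ := QuotientGroup.mk_surjective x
  obtain ⟨b, rfl⟩ := QuotientGroup.mk_surjective y
  obtain ⟨q, hq⟩ := bruhat P (a⁻¹ * b)
  show opMat P h ((g * a : G) : G ⧸ P.B) ((g * b : G) : G ⧸ P.B) = _
  rw [opMat_apply P h _ _ hq, opMat_apply P h (g * a) (g * b) (q := q)]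
  rwa [show (g * a)⁻¹ * (g * b) = a⁻¹ * b by group]

theorem exists_opMat {M : Matrix (G ⧸ P.B) (G ⧸ P.B) ℂ} (hM : Inv' P M) : ∃ h, opMat P h = M := by
  choose n hn using cls_surjective P
  let h : Weyl P → ℂ := fun q => M ((1 : G) : G ⧸ P.B) (((n q : P.N) : G) : G ⧸ P.B)
  refine ⟨h, Matrix.ext fun x y => ?_⟩
  obtain ⟨a, rfl⟩ := QuotientGroup.mk_surjective x
  obtain ⟨b, rfl⟩ := QuotientGroup.mk_surjective y
  obtain ⟨q, hq⟩ := bruhat P (a⁻¹ * b)
  rw [opMat_apply P h a b hq]
  rw [← hn q, cell_cls_eq, DoubleCoset.mem_doubleCoset] at hq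
  obtain ⟨c, hc, d, hd, e⟩ := hq
  have hx : (a * c) • ((1 : G) : G ⧸ P.B) = (a : G ⧸ P.B) := by
    show ((a * c * 1 : G) : G ⧸ P.B) = _
    rw [QuotientGroup.eq]
    simpa using P.B.inv_mem hc
  have hy : (a * c) • (((n q : P.N) : G) : G ⧸ P.B) = (b : G ⧸ P.B) := by
    show ((a * c * (n q : P.N) : G) : G ⧸ P.B) = _
    rw [QuotientGroup.eq, show b = a * (a⁻¹ * b) by group, e]
    rw [show (a * c * ((n q : P.N) : G))⁻¹ * (a * (c * ((n q : P.N) : G) * d)) = d by group]
    exact hd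
  rw [← hx, ← hy, hM]

variable {q : ℕ} (hq : ∀ s : P.S, cnum P s = q)

include hq in
theorem T_σ_mul (s : P.S) (y : Weyl P) :
    T P (σ P s) * T P y =
      kap (q : ℂ) (Dn P s y) • T P y + mu (q : ℂ) (Dn P s y) • T P (σ P s * y) := by
  by_cases h : Dn P s y
  · have h' : len P (σ P s * y) ≤ len P (σ P s * (σ P s * y)) := by
      unfold Dn at h
      rw [σ_mul_σ_mul]
      omega
    have e := T_mul_of_le P s h'
    rw [σ_mul_σ_mul] at e
    have e2 : T P (σ P s) * T P y =
        ((q : ℂ) - 1) • (T P (σ P s) * T P (σ P s * y)) + (q : ℂ) • T P (σ P s * y) := by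
      conv_lhs => rw [← e, ← mul_assoc, T_sq, hq, add_mul, smul_mul_assoc, smul_mul_assoc, one_mul]
    rw [e2, e, kap, mu, if_pos h, if_pos h]
  · rw [kap, mu, if_neg h, if_neg h, zero_smul, zero_add, one_smul]
    exact T_mul_of_le P s (not_lt.1 h)

include hq in
theorem T_mul_opMat (s : P.S) (h : Weyl P → ℂ) :
    T P (σ P s) * opMat P h = opMat P (Lm P (q : ℂ) s *ᵥ h) := by
  rw [opMat_eq, opMat_eq, Finset.mul_sum]
  simp only [mulVec, dotProduct, Finset.sum_smul]
  rw [Finset.sum_comm]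
  refine Finset.sum_congr rfl fun y _ => ?_
  rw [Matrix.mul_smul, T_σ_mul P hq]
  simp only [Lm, of_apply, add_mul, add_smul, Finset.sum_add_distrib, mul_ite, mul_one, mul_zero,
    ite_mul, zero_mul, ite_smul, zero_smul, Finset.sum_ite_eq', Finset.mem_univ, if_true, smul_add,
    smul_smul]
  simp only [mul_comm]

theorem opMat_transpose (h : Weyl P → ℂ) : (opMat P h)ᵀ = opMat P (h ∘ Inv.inv) := by
  rw [opMat_eq, opMat_eq, transpose_sum]
  refine Fintype.sum_equiv (Equiv.inv _) _ _ fun x => ?_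
  rw [transpose_smul, T_transpose, Equiv.inv_apply, Function.comp_apply, inv_inv]

include hq in
theorem opMat_mul_T (s : P.S) (h : Weyl P → ℂ) :
    opMat P h * T P (σ P s) = opMat P (Rm P (q : ℂ) s *ᵥ h) := by
  apply Matrix.transpose_injective
  rw [transpose_mul, T_transpose, σ_inv, opMat_transpose, opMat_transpose, T_mul_opMat P hq]
  congr 1
  funext x
  simp only [Function.comp_apply, Rm, mulVec, dotProduct, submatrix_apply, inv_inv]
  exact Fintype.sum_equiv (Equiv.inv _) _ _ fun y => by simp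

theorem commute_T {M : Matrix (G ⧸ P.B) (G ⧸ P.B) ℂ} (hM : ∀ s : P.S, Commute M (T P (σ P s))) :
    ∀ y, Commute M (T P y) := by
  suffices H : ∀ (n : ℕ) y, len P y = n → Commute M (T P y) from fun y => H _ y rfl
  intro n
  induction n with
  | zero => intro y hy; rw [len_eq_zero P hy, T_one]; exact Commute.one_right M
  | succ n ih =>
    intro y hy
    obtain ⟨s, p, rfl, hp⟩ := exists_cons P (q := y) (by omega)
    rw [← T_mul_of_le P s (q := p) (by omega)]
    exact (hM s).mul_right (ih p (by omega))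

theorem inv'_iff (M : Matrix (G ⧸ P.B) (G ⧸ P.B) ℂ) :
    (∀ g : G, Matrix.toLinAlgEquiv' M * permRep ℂ G (G ⧸ P.B) g =
      permRep ℂ G (G ⧸ P.B) g * Matrix.toLinAlgEquiv' M) ↔ Inv' P M := by
  have e1 : ∀ (g : G) (f : G ⧸ P.B → ℂ) (x : G ⧸ P.B),
      (Matrix.toLinAlgEquiv' M * permRep ℂ G (G ⧸ P.B) g) f x = ∑ y, M x (g • y) * f y := by
    intro g f x
    show ∑ y, M x y * f (g⁻¹ • y) = _
    exact Fintype.sum_equiv (MulAction.toPerm g⁻¹) _ _ fun y => by simp
  have e2 : ∀ (g : G) (f : G ⧸ P.B → ℂ) (x : G ⧸ P.B),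
      (permRep ℂ G (G ⧸ P.B) g * Matrix.toLinAlgEquiv' M) f x = ∑ y, M (g⁻¹ • x) y * f y :=
    fun g f x => rfl
  constructor
  · intro h g x y
    have h' := congrFun (LinearMap.congr_fun (h g) (Pi.single y 1)) (g • x)
    rw [e1, e2, inv_smul_smul] at h'
    simpa [Pi.single_apply] using h'
  · intro h g
    refine LinearMap.ext fun f => funext fun x => ?_
    rw [e1, e2]
    refine Finset.sum_congr rfl fun y _ => ?_
    have := h g (g⁻¹ • x) y
    rw [smul_inv_smul] at this
    rw [this]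

variable [Fintype P.S] [DecidableEq P.S]

/-- Central coefficient vectors as central intertwining operators. -/
noncomputable def centreMap [Fintype G] :
    centre P (q : ℂ) →ₗ[ℂ] Module.End ℂ (G ⧸ P.B → ℂ) :=
  (Matrix.toLinAlgEquiv' (R := ℂ) (n := G ⧸ P.B)).toLinearMap ∘ₗ opMat P ∘ₗ (centre P (q : ℂ)).subtype

include hq in
theorem range_centreMap [Fintype G] :
    LinearMap.range (centreMap P (q := q)) = commCentre (permRep ℂ G (G ⧸ P.B)) := by
  refine le_antisymm ?_ fun S hS => ?_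
  · rintro _ ⟨⟨h, hh⟩, rfl⟩
    refine ⟨(inv'_iff P _).2 (opMat_inv P h), fun U hU => ?_⟩
    obtain ⟨M, rfl⟩ := (Matrix.toLinAlgEquiv' (R := ℂ) (n := G ⧸ P.B)).surjective U
    obtain ⟨k, rfl⟩ := exists_opMat P ((inv'_iff P M).1 hU)
    show Matrix.toLinAlgEquiv' (opMat P h) * _ = _ * Matrix.toLinAlgEquiv' (opMat P h)
    rw [← map_mul (Matrix.toLinAlgEquiv' (R := ℂ) (n := G ⧸ P.B)), ← map_mul (Matrix.toLinAlgEquiv' (R := ℂ) (n := G ⧸ P.B))]
    congr 1
    have hc : ∀ s : P.S, Commute (opMat P h) (T P (σ P s)) := fun s => by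
      show _ = _
      rw [opMat_mul_T P hq, T_mul_opMat P hq, (mem_centre P).1 hh s]
    rw [opMat_eq P k, Finset.mul_sum, Finset.sum_mul]
    exact Finset.sum_congr rfl fun y _ => by
      rw [Matrix.mul_smul, Matrix.smul_mul, (commute_T P hc y).eq]
  · obtain ⟨M, rfl⟩ := (Matrix.toLinAlgEquiv' (R := ℂ) (n := G ⧸ P.B)).surjective S
    obtain ⟨h, rfl⟩ := exists_opMat P ((inv'_iff P M).1 hS.1)
    refine ⟨⟨h, (mem_centre P).2 fun s => opMat_injective P ?_⟩, rfl⟩
    have e : opMat P (Pi.single (σ P s) 1) = T P (σ P s) := by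
      rw [opMat_eq, Finset.sum_eq_single (σ P s)] <;> simp +contextual
    have h2 := hS.2 (Matrix.toLinAlgEquiv' (T P (σ P s))) ((inv'_iff P _).2 (e ▸ opMat_inv P _))
    rw [← map_mul (Matrix.toLinAlgEquiv' (R := ℂ) (n := G ⧸ P.B)), ← map_mul (Matrix.toLinAlgEquiv' (R := ℂ) (n := G ⧸ P.B)), (Matrix.toLinAlgEquiv' (R := ℂ) (n := G ⧸ P.B)).injective.eq_iff] at h2
    rw [← T_mul_opMat P hq, ← opMat_mul_T P hq, h2]

theorem centreMap_injective [Fintype G] : Function.Injective (centreMap P (q := q)) :=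
  fun _ _ h => Subtype.ext (opMat_injective P
    ((Matrix.toLinAlgEquiv' (R := ℂ) (n := G ⧸ P.B)).injective h))

omit [Fintype (Weyl P)] [DecidableEq (Weyl P)] [Fintype P.S] [DecidableEq P.S] in
include hq in
/-- The number of constituents of the permutation character on the cosets of `B`. -/
theorem card_constituents (hq0 : 0 < q) :
    Nat.card {χ : IrrCharacter G // ∃ φ : G → ℂ, IsCharacter G φ ∧
      fixedPointCharacter P.B = (χ : G → ℂ) + φ} = Nat.card (ConjClasses (Weyl P)) := by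
  classical
  have := Fintype.ofFinite G
  have := Fintype.ofFinite (Weyl P)
  have := Fintype.ofFinite P.S
  have hπ : fixedPointCharacter P.B = (permRep ℂ G (G ⧸ P.B)).character :=
    (permRep_character (G := G) (Ω := G ⧸ P.B)).symm
  rw [Nat.card_congr (Equiv.subtypeEquivRight fun χ : IrrCharacter G =>
      show _ ↔ classInner (permRep ℂ G (G ⧸ P.B)).character (χ : G → ℂ) ≠ 0 by
        rw [hπ]; exact exists_add_iff (isCharacter_character _) χ.2),
    ← finrank_commCentre, ← range_centreMap P hq,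
    LinearMap.finrank_range_of_inj (centreMap_injective P)]
  have h := finrank_centre P (τ := (q : ℝ)) (by exact_mod_cast hq0)
  rwa [Complex.ofReal_natCast] at h

end CfsgLib.HeckeCentre
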