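/-
The parameters of the Chevalley groups are all equal to the order of the field, and the Weyl group
of the (B,N)-pair is the Coxeter group of the diagram.
-/
import Cfsg.Agent.Lib.HeckeCentre.Intertwine
import Cfsg.Agent.Lib.Chev.BNPairChev
import Cfsg.Agent.Lib.Chev.CoxeterIso
import Cfsg.Agent.Lib.Chev.CoxeterG2
import Cfsg.Agent.Lib.Chev.CoxeterB2
import Cfsg.Agent.Lib.Chev.CoxeterD4
import Cfsg.Agent.Lib.Chev.CoxeterF4
import Cfsg.Agent.Lib.Chev.CoxeterE6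
import Cfsg.Agent.Lib.Chev.CoxeterE7
import Cfsg.Agent.Lib.Chev.CoxeterE8

set_option autoImplicit false
set_option linter.unusedSectionVars false

namespace CfsgLib.HeckeCentre

open Cfsg.Lie CfsgLib.BN CfsgLib.Chev CfsgLib.FeitHigman

variable {D : ChevalleyDatum} (Φ : CfsgLib.Chev.Chev D) (F : Type*) [Field F] [Finite F]

theorem cnum_bnP (s : (Φ.bnP F).S) : cnum (Φ.bnP F) s = Nat.card F := by
  obtain ⟨i, rfl⟩ := Φ.genS_surjective s
  set n : GL D.Idx F := Φ.nw (Φ.p i) 1 with hn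
  have hssH : n * n ∈ D.diagonalSubgroup F := by
    rw [hn, Φ.nw_one_sq, ← Φ.hw_p]
    exact Φ.hw_mem_H _ _
  have hssB : n * n ∈ D.borelSubgroup F := CfsgLib.Chev.Chev.H_le_B hssH
  let s : (Φ.bnP F).S := Φ.genS F i
  let x : F → ↥(D.group F) := fun a => ⟨Φ.toAlg.xg (Φ.p i) a, Φ.toAlg.xg_mem_group _ _⟩
  have hxB : ∀ a, x a ∈ (Φ.bnP F).B := fun a => CfsgLib.Chev.Chev.U_le_B (Φ.xg_mem_U (Φ.p_pos i) a)
  have hmem : ∀ a, ((x a * s.1 : ↥(D.group F)) : ↥(D.group F) ⧸ (Φ.bnP F).B).out ∈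
      cell (Φ.bnP F) (σ (Φ.bnP F) s) := fun a =>
    (out_mem_iff (Φ.bnP F) _ _).2 (B_mul_cell _ (hxB a) (self_mem_cell_σ _ s))
  rw [cnum]
  symm
  refine Nat.card_congr (Equiv.ofBijective
    (fun a => (⟨_, hmem a⟩ : {y : ↥(D.group F) ⧸ (Φ.bnP F).B // y.out ∈ cell (Φ.bnP F) (σ (Φ.bnP F) s)})) ⟨?_, ?_⟩)
  · intro a b hab
    have h := QuotientGroup.eq.1 (congrArg Subtype.val hab)
    have h' : (Φ.toAlg.xg (Φ.p i) a * n)⁻¹ * (Φ.toAlg.xg (Φ.p i) b * n) ∈ D.borelSubgroup F := by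
      have h2 := (Φ.mem_bnPair_B).1 h
      simp only [Subgroup.coe_mul, InvMemClass.coe_inv] at h2
      exact h2
    have h3 : n * Φ.toAlg.xg (Φ.p i) (b - a) * n⁻¹ ∈ D.borelSubgroup F := by
      have h4 := mul_mem (mul_mem hssB h') (inv_mem hssB)
      rw [sub_eq_add_neg, add_comm, Φ.toAlg.xg_add, Φ.toAlg.xg_neg]
      have e : n * n * ((Φ.toAlg.xg (Φ.p i) a * n)⁻¹ * (Φ.toAlg.xg (Φ.p i) b * n)) * (n * n)⁻¹ =
          n * ((Φ.toAlg.xg (Φ.p i) a)⁻¹ * Φ.toAlg.xg (Φ.p i) b) * n⁻¹ := by group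
      rw [e] at h4
      exact h4
    obtain ⟨e, he, he', -⟩ := (Φ.nw_one_mono (F := F) i).1 (Φ.p i)
    rw [show Φ.reflPerm i (Φ.p i) = (Φ.p i).rev from Φ.refl_p i, ← hn] at he'
    rw [he'] at h3
    have h5 : Φ.toAlg.xg (Φ.p i).rev (e * (b - a)) ∈ D.borelSubgroup F ⊓ D.negUnipotent F :=
      ⟨h3, Φ.xg_mem_V (fun hp => (Φ.pos_rev_iff _).mp hp (Φ.p_pos i)) _⟩
    rw [Φ.B_inf_V, Subgroup.mem_bot, Φ.toAlg.xg_eq_one_iff, mul_eq_zero, or_iff_right he, sub_eq_zero] at h5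
    exact h5.symm
  · rintro ⟨y, hy⟩
    obtain ⟨g, rfl⟩ := QuotientGroup.mk_surjective y
    have hg := (out_mem_iff (Φ.bnP F) g _).1 hy
    rw [σ, cell_cls_eq, DoubleCoset.mem_doubleCoset] at hg
    obtain ⟨b, hb, c, hc, rfl⟩ := hg
    obtain ⟨u, hu, h, hh, hbe⟩ := Φ.mem_B_iff.1 ((Φ.mem_bnPair_B).1 hb)
    obtain ⟨v, hv, a, rfl⟩ := Φ.exists_split i hu
    refine ⟨a, Subtype.ext (QuotientGroup.eq.2 ((Φ.mem_bnPair_B).2 ?_))⟩
    simp only [Subgroup.coe_mul, InvMemClass.coe_inv, hbe]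
    have hv' := Φ.xg_p_conj_posNe i a hv
    have h1 : n * ((Φ.toAlg.xg (Φ.p i) a)⁻¹ * v * Φ.toAlg.xg (Φ.p i) a) * n⁻¹ ∈ D.borelSubgroup F :=
      CfsgLib.Chev.Chev.U_le_B (Φ.posNe_le_U (Φ.nw_conj_posNe i hv'))
    have h2 : n * h * n⁻¹ ∈ D.borelSubgroup F := CfsgLib.Chev.Chev.H_le_B (Φ.H_conj_mem (Φ.nw_mem_N _ _) hh)
    have h3 := mul_mem (mul_mem (mul_mem (inv_mem hssB) (mul_mem h1 h2)) hssB) ((Φ.mem_bnPair_B).1 hc)
    convert h3 using 1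
    simp only [s, CfsgLib.Chev.Chev.genS, x, ← hn]
    group

theorem weylPerm_surjective : Function.Surjective (Φ.weylPerm F) := by
  rintro ⟨π, hπ⟩
  suffices ∃ q, (Φ.weylPerm F q : Equiv.Perm (Fin D.nroots)) = π from this.imp fun q h => Subtype.ext h
  induction hπ using Subgroup.closure_induction with
  | mem y hy =>
    obtain ⟨i, -, rfl⟩ := hy
    exact ⟨_, Φ.weylPerm_σ i⟩
  | one => exact ⟨1, by simp⟩
  | mul a b _ _ ha hb =>
    obtain ⟨x, rfl⟩ := ha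
    obtain ⟨y, rfl⟩ := hb
    exact ⟨x * y, by simp⟩
  | inv a _ ha =>
    obtain ⟨x, rfl⟩ := ha
    exact ⟨x⁻¹, by simp⟩

theorem card_conjClasses_congr {A B : Type*} [Group A] [Group B] (e : A ≃* B) :
    Nat.card (ConjClasses A) = Nat.card (ConjClasses B) :=
  Nat.card_congr (Equiv.ofBijective (ConjClasses.map e.toMonoidHom) ⟨fun a b h => by
    obtain ⟨a, rfl⟩ := ConjClasses.mk_surjective a
    obtain ⟨b, rfl⟩ := ConjClasses.mk_surjective b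
    have h' : IsConj (e a) (e b) := ConjClasses.mk_eq_mk_iff_isConj.1 h
    have h2 := e.symm.toMonoidHom.map_isConj h'
    simpa [ConjClasses.mk_eq_mk_iff_isConj] using h2,
    ConjClasses.map_surjective e.surjective⟩)

theorem chev_card_constituents {H : Type*} [Group H] (e : H ≃* Φ.WL) :
    Nat.card {χ : Cfsg.IrrCharacter ↥(D.group F) //
      ∃ φ : ↥(D.group F) → ℂ, Cfsg.IsCharacter ↥(D.group F) φ ∧
        Cfsg.fixedPointCharacter ((D.borelSubgroup F).subgroupOf (D.group F)) =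
          (χ : ↥(D.group F) → ℂ) + φ} = Nat.card (ConjClasses H) := by
  rw [card_conjClasses_congr e,
    ← card_conjClasses_congr (MulEquiv.ofBijective (Φ.weylPerm F) ⟨Φ.weylPerm_injective, weylPerm_surjective Φ F⟩)]
  exact card_constituents (Φ.bnP F) (q := Nat.card F) (cnum_bnP Φ F) Nat.card_pos

/-- S2319. -/
theorem principalSeries_card {K : Type*} [Field K] [Fintype K]
    (dw : Cfsg.Lie.ChevalleyDatum × (Σ n : ℕ, CoxeterMatrix (Fin n)))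
    (hdw : dw ∈ [(Cfsg.Lie.chevG2, ⟨2, CoxeterMatrix.G₂⟩), (Cfsg.Lie.chevB2, ⟨2, CoxeterMatrix.B 2⟩), (Cfsg.Lie.chevD4, ⟨4, Cfsg.Lie.coxeterD4⟩), (Cfsg.Lie.chevF4, ⟨4, CoxeterMatrix.F₄⟩),
      (Cfsg.Lie.chevE6, ⟨6, CoxeterMatrix.E₆⟩), (Cfsg.Lie.chevE7, ⟨7, CoxeterMatrix.E₇⟩), (Cfsg.Lie.chevE8, ⟨8, CoxeterMatrix.E₈⟩)]) :
    Nat.card {χ : Cfsg.IrrCharacter ↥(dw.1.group K) //
      ∃ φ : ↥(dw.1.group K) → ℂ, Cfsg.IsCharacter ↥(dw.1.group K) φ ∧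
        Cfsg.fixedPointCharacter ((dw.1.borelSubgroup K).subgroupOf (dw.1.group K)) = (χ : ↥(dw.1.group K) → ℂ) + φ} =
      Nat.card (ConjClasses dw.2.2.Group) := by
  fin_cases hdw
  · exact chev_card_constituents CfsgLib.Chev.chevG2 K coxIsoG2.choose
  · exact chev_card_constituents CfsgLib.Chev.chevB2 K coxIsoB2.choose
  · exact chev_card_constituents CfsgLib.Chev.chevD4 K coxIsoD4.choose
  · exact chev_card_constituents CfsgLib.Chev.chevF4 K coxIsoF4.choose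
  · exact chev_card_constituents CfsgLib.Chev.chevE6 K coxIsoE6.choose
  · exact chev_card_constituents CfsgLib.Chev.chevE7 K coxIsoE7.choose
  · exact chev_card_constituents CfsgLib.Chev.chevE8 K coxIsoE8.choose

end CfsgLib.HeckeCentre
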